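import Cfsg.Agent.Lib.Trans3.FiLarge.SmallStab.Stab

/-!
The stabiliser of the standard small vector in a cover has no nontrivial normal subgroup of 2-power order.
-/

set_option autoImplicit false
set_option linter.unusedSectionVars false

namespace CfsgLib.Trans3.FiLarge.SmallStab

open Matrix CfsgLib.Chev.U43U6

theorem lineK_transitive (b : Fin 3) (l : Fin 27) : ∃ g : KS b, (lineK b g).1 (lnN 0) = l := by
  have key : ∀ (C : List (ℕ × List ℕ)), chainOK b [] C = true → (∀ p T rest, C = (p, T) :: rest →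
      p = 0 → T.length = 27 → ∃ g : KS b, (lineK b g).1 (lnN 0) = l) := by
    intro C h p T rest e hp hl
    subst e hp
    simp only [chainOK, Bool.and_eq_true, List.all_eq_true] at h
    obtain ⟨⟨hT, hd⟩, -⟩ := h
    have hn := distinct_nodup hd
    have hlt : ∀ x ∈ T.map fun k => (lamC (nMat b k) (lnN 0)).val, x ∈ List.range 27 := fun x hx => by
      obtain ⟨k, -, rfl⟩ := List.mem_map.1 hx
      exact List.mem_range.2 (Fin.isLt _)
    have hperm := (hn.subperm hlt).perm_of_length_le (by simp [hl])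
    obtain ⟨k, hk, ek⟩ := List.mem_map.1 (hperm.mem_iff.2 (List.mem_range.2 l.2))
    obtain ⟨⟨hk', h5⟩, -⟩ := hT k hk
    obtain ⟨g, hg, eg⟩ := node_mem b k (by simpa [Nat.blt] using hk')
    have hfix : mat g *ᵥ v0 = v0 := by
      rw [eg, v0, ← vdec_mulV isOmega_om, Nat.eq_of_beq_eq_true h5]
    exact ⟨⟨g, hg, hfix⟩, Fin.ext (by rw [lineK_code b _ eg]; exact ek)⟩
  have hshape : ∀ b : Fin 3, ∃ T rest, chainB b = (0, T) :: rest ∧ T.length = 27 := by
    intro b
    fin_cases b <;> exact ⟨_, _, rfl, rfl⟩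
  obtain ⟨T, rest, e, hl⟩ := hshape b
  exact key _ (chain_ok b).1 0 T rest e rfl hl

/-- No normal 2-subgroup. -/
theorem eq_bot_of_normal_two (b : Fin 3) {S : Subgroup (KS b)} (hS : S.Normal) (h2 : IsPGroup 2 S) :
    S = ⊥ := by
  haveI : Fact (Nat.Prime 2) := ⟨Nat.prime_two⟩
  let f : S →* Equiv.Perm (Fin 27) := (graphAut.subtype.comp (lineK b)).comp S.subtype
  letI : MulAction S (Fin 27) := MulAction.compHom _ f
  have hne : (MulAction.fixedPoints S (Fin 27)).Nonempty := by
    refine h2.nonempty_fixed_point_of_prime_not_dvd_card (Fin 27) ?_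
    rw [Nat.card_eq_fintype_card, Fintype.card_fin]
    norm_num
  obtain ⟨l₀, hl₀⟩ := hne
  have hall : ∀ (s : S) (l : Fin 27), (lineK b s).1 l = l := by
    intro s l
    obtain ⟨g, hg⟩ := lineK_transitive b l
    obtain ⟨g₀, hg₀⟩ := lineK_transitive b l₀
    set r := g * g₀⁻¹ with hr
    have hl : (lineK b r).1 l₀ = l := by
      rw [hr, map_mul, map_inv, ← hg, ← hg₀]
      exact congrArg (lineK b g).1 (Equiv.symm_apply_apply _ _)
    have h := hl₀ ⟨r⁻¹ * s * r, by simpa using hS.conj_mem s s.2 r⁻¹⟩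
    have h' : (lineK b (r⁻¹ * s * r)).1 l₀ = l₀ := h
    rw [map_mul, map_mul, map_inv] at h'
    have h'' := congrArg (lineK b r).1 h'
    rw [← hl]
    refine Eq.trans ?_ h''
    show _ = (lineK b r).1 ((lineK b r).1⁻¹ ((lineK b s).1 ((lineK b r).1 l₀)))
    exact (Equiv.apply_symm_apply _ _).symm
  refine (Subgroup.eq_bot_iff_forall _).2 fun s hs => (lineK_facts b).1 ?_
  rw [map_one]
  exact Subtype.ext (Equiv.ext (hall ⟨s, hs⟩))

end CfsgLib.Trans3.FiLarge.SmallStab
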