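import Cfsg.Agent.Lib.InvChar.SuzType.Setup
import Cfsg.Agent.Lib.Trans3.FiLarge.SmallStab.GeoData

/-!
A permutation of the 27 lines that preserves meeting is induced by an isometry of the elliptic
quadratic space of dimension six over two elements.
-/

set_option autoImplicit false
set_option linter.unusedSectionVars false
set_option synthInstance.maxSize 4096

namespace CfsgLib.Trans3.FiLarge.SmallStab

open Matrix CfsgLib.InvChar.SuzType

/-- The points of a line. -/
def lnPts (i : Fin 27) : List ℕ := lns.getD i []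

/-- Two different lines meet. -/
def meet (i j : Fin 27) : Bool := !Nat.beq i j && (lnPts i).any fun x => (lnPts j).any fun y => Nat.beq x y

/-- The singular vector of a line. -/
def sv (i : Fin 27) : V := code (sng.getD i 0)

/-- A basis line. -/
def basLn (j : Fin 6) : Fin 27 := ⟨basLns.getD j 0 % 27, Nat.mod_lt _ (by norm_num)⟩

/-- The coordinates of a code. -/
def cmask (n : ℕ) : ℕ := coordMasks.getD n 0

/-- A sum of chosen vectors. -/
def comb (w : Fin 6 → V) (m : ℕ) : V :=
  sm (bitv m 0) (w 0) + sm (bitv m 1) (w 1) + sm (bitv m 2) (w 2) + sm (bitv m 3) (w 3) +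
    sm (bitv m 4) (w 4) + sm (bitv m 5) (w 5)
where
  /-- A bit as a scalar. -/
  bitv (m i : ℕ) : ZMod 2 := if m.testBit i then 1 else 0

theorem sv_facts : ∀ i : Fin 27, qf (sv i) = 0 ∧ sv i ≠ 0 := by decide +kernel

theorem sv_adj : ∀ i j : Fin 27, i ≠ j → (bf (sv i) (sv j) = 0 ↔ meet i j = true) := by decide +kernel

theorem sv_inj : ∀ i j : Fin 27, sv i = sv j → i = j := by decide +kernel

theorem comb_code : ∀ n < 64, comb (fun j => sv (basLn j)) (cmask n) = code n := by decide +kernel

theorem cmask_xor : ∀ a < 64, ∀ b < 64, cmask (a ^^^ b) = cmask a ^^^ cmask b := by decide +kernel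

theorem basLn_mask : ∀ j : Fin 6, ∃ n < 64, code n = sv (basLn j) ∧ cmask n = 2 ^ (j : ℕ) := by
  decide +kernel

theorem code_xor' : ∀ x : V, ∃ n < 64, code n = x := by decide +kernel

theorem code_inj' : ∀ a < 64, ∀ b < 64, code a = code b → a = b := by decide +kernel

theorem bf_nondeg : ∀ x : V, (∀ y : V, bf x y = 0) → x = 0 := by decide +kernel

theorem sm_add (a b : ZMod 2) (u : V) : sm (a + b) u = sm a u + sm b u := by
  rcases z2_cases' a with rfl | rfl <;> rcases z2_cases' b with rfl | rfl <;>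
    simp [sm, v_self, show (1 : ZMod 2) + 1 = 0 from rfl]

theorem comb_xor (w : Fin 6 → V) (a b : ℕ) : comb w (a ^^^ b) = comb w a + comb w b := by
  have h : ∀ p r : Bool, (if (p ^^ r) then (1 : ZMod 2) else 0) =
      (if p then 1 else 0) + (if r then 1 else 0) := by decide
  simp only [comb, comb.bitv, Nat.testBit_xor, h, sm_add]
  abel

theorem bf_sm_left (c : ZMod 2) (x y : V) : bf (sm c x) y = c * bf x y := by
  rcases z2_cases' c with rfl | rfl <;> simp [sm, zero_bf]

theorem bf_comb_left (w : Fin 6 → V) (m : ℕ) (y : V) :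
    bf (comb w m) y = comb.bitv m 0 * bf (w 0) y + comb.bitv m 1 * bf (w 1) y +
      comb.bitv m 2 * bf (w 2) y + comb.bitv m 3 * bf (w 3) y + comb.bitv m 4 * bf (w 4) y +
      comb.bitv m 5 * bf (w 5) y := by
  simp only [comb, bf_add_left, bf_sm_left]

theorem qf_sm (c : ZMod 2) (x : V) : qf (sm c x) = c * qf x := by
  rcases z2_cases' c with rfl | rfl
  · simp [sm, qf]
  · simp [sm]

theorem qf_comb_congr {w w' : Fin 6 → V} (hq : ∀ j, qf (w j) = qf (w' j))
    (hb : ∀ j k, bf (w j) (w k) = bf (w' j) (w' k)) (m : ℕ) : qf (comb w m) = qf (comb w' m) := by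
  simp only [comb, qf_add, qf_sm, bf_add_left, bf_sm_left, hq]
  simp only [bf_symm _ (sm _ _), bf_sm_left, hb]

/-- The number of a vector. -/
def encV (x : V) : ℕ :=
  x.1.1.val + 2 * x.1.2.val + 4 * x.2.1.1.val + 8 * x.2.1.2.val + 16 * x.2.2.1.val + 32 * x.2.2.2.val

theorem encV_spec : ∀ x : V, encV x < 64 ∧ code (encV x) = x := by decide +kernel

theorem encV_add : ∀ x y : V, encV (x + y) = encV x ^^^ encV y := by decide +kernel

/-- The linear map that follows a permutation of the lines on the basis. -/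
def lift (l : Equiv.Perm (Fin 27)) (x : V) : V := comb (fun j => sv (l (basLn j))) (cmask (encV x))

/-- A permutation of the lines preserves meeting. -/
def Preserves (l : Equiv.Perm (Fin 27)) : Prop := ∀ i j, meet (l i) (l j) = meet i j

theorem lift_add (l : Equiv.Perm (Fin 27)) (x y : V) : lift l (x + y) = lift l x + lift l y := by
  unfold lift
  rw [encV_add, cmask_xor _ (encV_spec x).1 _ (encV_spec y).1, comb_xor]

theorem bf_perm {l : Equiv.Perm (Fin 27)} (hl : Preserves l) (i j : Fin 27) :
    bf (sv (l i)) (sv (l j)) = bf (sv i) (sv j) := by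
  by_cases h : i = j
  · subst h; rw [bf_self, bf_self]
  have h' : l i ≠ l j := fun e => h (l.injective e)
  rcases z2_cases' (bf (sv i) (sv j)) with e | e <;> rw [e]
  · rw [sv_adj _ _ h', hl, ← sv_adj _ _ h, e]
  · refine (z2_cases' _).resolve_left fun e' => ?_
    rw [sv_adj _ _ h', hl, ← sv_adj _ _ h, e] at e'
    exact one_ne_zero e'

theorem lift_qf {l : Equiv.Perm (Fin 27)} (hl : Preserves l) (x : V) : qf (lift l x) = qf x := by
  unfold lift
  rw [qf_comb_congr (w' := fun j => sv (basLn j))
      (fun j => by rw [(sv_facts _).1, (sv_facts _).1]) (fun j k => bf_perm hl _ _),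
    comb_code _ (encV_spec x).1, (encV_spec x).2]

theorem lift_bf {l : Equiv.Perm (Fin 27)} (hl : Preserves l) (x y : V) :
    bf (lift l x) (lift l y) = bf x y := by
  have h := qf_add (lift l x) (lift l y)
  rw [← lift_add, lift_qf hl, lift_qf hl, lift_qf hl, qf_add] at h
  exact (add_left_cancel h).symm

theorem lift_eq_zero {l : Equiv.Perm (Fin 27)} (hl : Preserves l) {x : V} (h : lift l x = 0) :
    x = 0 :=
  bf_nondeg x fun y => by rw [← lift_bf hl, h, zero_bf]

theorem lift_bijective {l : Equiv.Perm (Fin 27)} (hl : Preserves l) :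
    Function.Bijective (lift l) := by
  refine (Finite.injective_iff_bijective).1 fun x y e => ?_
  have h : lift l (x + y) = 0 := by rw [lift_add, e, v_self]
  have := lift_eq_zero hl h
  calc x = x + (y + y) := by rw [v_self, add_zero]
    _ = y := by rw [← add_assoc, this, zero_add]

theorem lift_sv {l : Equiv.Perm (Fin 27)} (hl : Preserves l) (i : Fin 27) :
    lift l (sv i) = sv (l i) := by
  have hbas : ∀ j, lift l (sv (basLn j)) = sv (l (basLn j)) := by
    intro j
    obtain ⟨n, hn, hc, hm⟩ := basLn_mask j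
    have he : encV (sv (basLn j)) = n := code_inj' _ (encV_spec _).1 n hn
      ((encV_spec _).2.trans hc.symm)
    unfold lift
    rw [he, hm]
    fin_cases j <;> simp [comb, comb.bitv, sm, Nat.testBit, Nat.shiftRight_eq_div_pow]
  have key : ∀ y, bf (lift l (sv i) + sv (l i)) (lift l y) = 0 := by
    intro y
    have e : bf (lift l (sv i)) (lift l y) = bf (sv (l i)) (lift l y) := by
      rw [lift_bf hl, bf_symm, bf_symm (sv (l i)), ← (encV_spec y).2,
        ← comb_code _ (encV_spec y).1]
      conv_rhs => rw [comb_code _ (encV_spec y).1, (encV_spec y).2]; unfold lift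
      simp only [bf_comb_left, bf_perm hl]
    rw [bf_add_left, e, z2_self]
  have h0 := bf_nondeg (lift l (sv i) + sv (l i)) fun z => by
    obtain ⟨y, rfl⟩ := (lift_bijective hl).2 z
    exact key y
  calc lift l (sv i) = lift l (sv i) + (sv (l i) + sv (l i)) := by rw [v_self, add_zero]
    _ = sv (l i) := by rw [← add_assoc, h0, zero_add]

/-- Additive maps agreeing on the singular vectors of the lines are equal. -/
theorem ext_sv {f g : V → V} (hf : ∀ x y, f (x + y) = f x + f y)
    (hg : ∀ x y, g (x + y) = g x + g y) (h : ∀ i, f (sv i) = g (sv i)) (x : V) : f x = g x := by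
  rw [← (encV_spec x).2, ← comb_code _ (encV_spec x).1]
  simp only [comb, hf, hg, additive_sm hf, additive_sm hg, h]

theorem lift_mul {l l' : Equiv.Perm (Fin 27)} (hl : Preserves l) (hl' : Preserves l')
    (hll : Preserves (l * l')) (x : V) : lift (l * l') x = lift l (lift l' x) :=
  ext_sv (f := lift (l * l')) (g := fun y => lift l (lift l' y)) (lift_add _)
    (fun x y => by simp only [lift_add])
    (fun i => by simp only [lift_sv hll, lift_sv hl', lift_sv hl]; rfl) x

/-- The permutations preserving meeting. -/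
def graphAut : Subgroup (Equiv.Perm (Fin 27)) where
  carrier := {l | Preserves l}
  one_mem' := fun _ _ => rfl
  mul_mem' {a b} ha hb := fun i j => (ha (b i) (b j)).trans (hb i j)
  inv_mem' {a} ha := fun i j => by
    have := ha (a⁻¹ i) (a⁻¹ j)
    rw [show a (a⁻¹ i) = i from Equiv.apply_symm_apply a i,
      show a (a⁻¹ j) = j from Equiv.apply_symm_apply a j] at this
    exact this.symm

theorem lift_one (x : V) : lift (1 : Equiv.Perm (Fin 27)) x = x :=
  ext_sv (f := lift 1) (g := fun y => y) (lift_add _) (fun _ _ => rfl)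
    (fun i => lift_sv graphAut.one_mem i) x

/-- The isometry of a permutation preserving meeting. -/
theorem exists_graph_hom :
    ∃ Φ : ↥graphAut →* Cfsg.isometryGroup (ZMod 2) (Cfsg.quadFormMinus 2 (ZMod 2) 1 1),
      Function.Injective Φ := by
  have key : ∀ l : ↥graphAut, ∃ g : Cfsg.isometryGroup (ZMod 2) Amalgam.SixMinus.Q2,
      ∀ x, ((g : GL Amalgam.SixMinus.I6 (ZMod 2)) :
        Matrix Amalgam.SixMinus.I6 Amalgam.SixMinus.I6 (ZMod 2)) *ᵥ x =
          ofV (lift l (toV x)) := by
    intro l
    have hadd : ∀ (m : Equiv.Perm (Fin 27)) (x y : Amalgam.SixMinus.I6 → ZMod 2),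
        ofV (lift m (toV (x + y))) = ofV (lift m (toV x)) + ofV (lift m (toV y)) := fun m x y => by
      rw [toV_add, lift_add]
      funext j; rcases j with (j | j) | j <;> fin_cases j <;> rfl
    let M : Equiv.Perm (Fin 27) → Matrix Amalgam.SixMinus.I6 Amalgam.SixMinus.I6 (ZMod 2) :=
      fun m => LinearMap.toMatrix'
        ((AddMonoidHom.mk' (fun x => ofV (lift m (toV x))) (hadd m)).toZModLinearMap 2)
    have hM : ∀ m x, M m *ᵥ x = ofV (lift m (toV x)) := fun m x => by
      show LinearMap.toMatrix' _ *ᵥ x = _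
      rw [LinearMap.toMatrix'_mulVec]; rfl
    have hinv : ∀ a b : ↥graphAut, a * b = 1 → M a * M b = 1 := fun a b e =>
      Matrix.ext_iff_mulVec.2 fun x => by
        rw [← mulVec_mulVec, hM, hM, toV_ofV, ← lift_mul a.2 b.2 (a * b).2,
          show ((a : Equiv.Perm (Fin 27)) * b) = ((a * b : ↥graphAut) : Equiv.Perm (Fin 27)) from rfl,
          e, OneMemClass.coe_one, lift_one, ofV_toV, one_mulVec]
    refine ⟨⟨⟨M l, M (l⁻¹ : ↥graphAut), hinv _ _ (mul_inv_cancel l), hinv _ _ (inv_mul_cancel l)⟩,
      fun u _ => ?_⟩, hM l⟩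
    show Amalgam.SixMinus.Q2 (M l *ᵥ u) = _
    rw [hM, q2_eq, toV_ofV, lift_qf l.2, ← q2_eq]
  choose F hF using key
  refine ⟨MonoidHom.mk' F fun a b => Subtype.ext (Units.ext (Matrix.ext_iff_mulVec.2 fun x => ?_)),
    fun a b e => Subtype.ext (Equiv.ext fun i => ?_)⟩
  · simp only [Subgroup.coe_mul, Units.val_mul, ← mulVec_mulVec, hF, toV_ofV]
    rw [lift_mul a.2 b.2 (a * b).2]
  · have h : ofV (lift a (toV (ofV (sv i)))) = ofV (lift b (toV (ofV (sv i)))) := by
      rw [← hF, ← hF]
      exact congrArg (fun g : Cfsg.isometryGroup (ZMod 2) Amalgam.SixMinus.Q2 =>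
        ((g : GL Amalgam.SixMinus.I6 (ZMod 2)) :
          Matrix Amalgam.SixMinus.I6 Amalgam.SixMinus.I6 (ZMod 2)) *ᵥ ofV (sv i)) e
    have h' := congrArg toV h
    rw [toV_ofV, toV_ofV, toV_ofV, lift_sv a.2, lift_sv b.2] at h'
    exact sv_inj _ _ h'

end CfsgLib.Trans3.FiLarge.SmallStab
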