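import Cfsg.Agent.Lib.Trans3.FiLarge.SmallStab.Stab

/-!
The stabiliser of a small involution of `Q`, modulo `Q`, is the orthogonal group of minus type in dimension six
over two elements.
-/

set_option autoImplicit false
set_option linter.unusedSectionVars false
set_option synthInstance.maxSize 4096

namespace CfsgLib.Trans3.FiLarge.SmallStab

open Matrix CfsgLib.Chev.U43U6

variable {G : Type*} [Group G] {z : G} {Q : Subgroup (Subgroup.centralizer ({z} : Set G))} [Q.Normal]
  (c : Coord z Q)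

theorem pr_one : c.pr 1 = 0 := (c.pr_eq_zero 1 (one_mem Q)).2 (Or.inl rfl)

theorem pr_eq_iff {q r : (Subgroup.centralizer ({z} : Set G))} (hq : q ∈ Q) (hr : r ∈ Q) :
    c.pr q = c.pr r ↔ ((q * r : (Subgroup.centralizer ({z} : Set G))) : G) = 1 ∨ ((q * r : (Subgroup.centralizer ({z} : Set G))) : G) = z := by
  rw [← c.pr_eq_zero _ (mul_mem hq hr), c.pr_mul q hq r hr]
  constructor
  · intro e; rw [e, v6_self]
  · intro e
    calc c.pr q = c.pr q + (c.pr r + c.pr r) := by rw [v6_self, add_zero]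
      _ = c.pr r := by rw [← add_assoc, e, zero_add]

theorem conj_mem {q : (Subgroup.centralizer ({z} : Set G))} (hq : q ∈ Q) (h : (Subgroup.centralizer ({z} : Set G))) : h * q * h⁻¹ ∈ Q :=
  Subgroup.Normal.conj_mem inferInstance q hq h

/-- A preimage of a vector. -/
noncomputable def sec (v : V6) : (Subgroup.centralizer ({z} : Set G)) := (c.pr_surj v).choose

theorem sec_mem (v : V6) : sec c v ∈ Q := (c.pr_surj v).choose_spec.1

theorem pr_sec (v : V6) : c.pr (sec c v) = v := (c.pr_surj v).choose_spec.2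

/-- The action on the space. -/
noncomputable def Pf (h : (Subgroup.centralizer ({z} : Set G))) (v : V6) : V6 := c.pr (h * sec c v * h⁻¹)

theorem Pf_spec (h : (Subgroup.centralizer ({z} : Set G))) {q : (Subgroup.centralizer ({z} : Set G))} (hq : q ∈ Q) : Pf c h (c.pr q) = c.pr (h * q * h⁻¹) := by
  rw [Pf, pr_eq_iff c (conj_mem (sec_mem c _) h) (conj_mem hq h)]
  have e : h * sec c (c.pr q) * h⁻¹ * (h * q * h⁻¹) = h * (sec c (c.pr q) * q) * h⁻¹ := by group
  have h0 := (pr_eq_iff c (sec_mem c (c.pr q)) hq).1 (pr_sec c _)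
  have hz : (h : G) * z * (h : G)⁻¹ = z := by
    rw [Subgroup.mem_centralizer_singleton_iff.1 h.2]; group
  rw [e, Subgroup.coe_mul, Subgroup.coe_mul, Subgroup.coe_inv]
  rcases h0 with h0 | h0 <;> rw [h0]
  · exact Or.inl (by group)
  · exact Or.inr hz

theorem Pf_mul (g h : (Subgroup.centralizer ({z} : Set G))) (v : V6) : Pf c (g * h) v = Pf c g (Pf c h v) := by
  show Pf c (g * h) v = Pf c g (c.pr (h * sec c v * h⁻¹))
  rw [Pf_spec c g (conj_mem (sec_mem c v) h)]
  show c.pr _ = c.pr _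
  congr 1; group

theorem Pf_one (v : V6) : Pf c 1 v = v := by
  rw [Pf, one_mul, inv_one, mul_one, pr_sec]

/-- The action as a homomorphism. -/
noncomputable def P : (Subgroup.centralizer ({z} : Set G)) →* Equiv.Perm V6 where
  toFun h :=
    { toFun := Pf c h
      invFun := Pf c h⁻¹
      left_inv := fun v => by rw [← Pf_mul, inv_mul_cancel, Pf_one]
      right_inv := fun v => by rw [← Pf_mul, mul_inv_cancel, Pf_one] }
  map_one' := Equiv.ext (Pf_one c)
  map_mul' g h := Equiv.ext (Pf_mul c g h)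

theorem semi_P (h : (Subgroup.centralizer ({z} : Set G))) : ∃ e, Semi e (P c h) := by
  obtain ⟨e, he, hs, hh⟩ := c.semi h
  refine ⟨e, he, fun x y => ?_, fun a x => ?_, fun x y => hh _ (sec_mem c x) _ (sec_mem c y) |>.trans ?_⟩
  · show Pf c h (x + y) = Pf c h x + Pf c h y
    have hm := mul_mem (sec_mem c x) (sec_mem c y)
    conv_lhs => rw [← pr_sec c x, ← pr_sec c y, ← c.pr_mul _ (sec_mem c x) _ (sec_mem c y), Pf_spec c h hm]
    rw [Pf, Pf, ← c.pr_mul _ (conj_mem (sec_mem c x) h) _ (conj_mem (sec_mem c y) h)]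
    congr 1; group
  · exact hs _ (sec_mem c x) _ (sec_mem c _) a (by rw [pr_sec, pr_sec])
  · rw [pr_sec, pr_sec]

theorem P_act (k : c.M) : P c (k : (Subgroup.centralizer ({z} : Set G))) = matPerm (c.act k) :=
  Equiv.ext fun v => (c.conj_pr k _ (sec_mem c v)).trans (by rw [pr_sec]; rfl)

theorem P_eq_one {h : (Subgroup.centralizer ({z} : Set G))} (hh : h ∈ Q) : P c h = 1 := by
  rw [show h = ((⟨h, c.le_M hh⟩ : c.M) : (Subgroup.centralizer ({z} : Set G))) from rfl, P_act, (c.ker_act _).2 hh, map_one]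

theorem semi_exp_unique {g : Equiv.Perm V6} (h1 : Semi 1 g) : ¬ Semi 2 g := by
  intro h2
  have hv : v0 ≠ 0 := fun e => (pts_facts 0).2.2.2 0 (by
    exact absurd (congrFun e 0) (by decide +kernel))
  have e := (h1.2.2.1 om v0).symm.trans (h2.2.2.1 om v0)
  rw [pow_one] at e
  have hg : g v0 ≠ 0 := fun e0 => hv (g.injective (by
    rw [e0]; have := h1.2.2.1 0 0; simpa using this.symm))
  exact absurd (smul_left_injective F4 hg e) (by decide)

theorem iso_of_small [Finite G] {t : (Subgroup.centralizer ({z} : Set G))} (htQ : t ∈ Q) (ht2 : t * t = 1) (hsmall : InSmall c.b (c.pr t))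
    (hout : ∀ h, h ∉ c.M → Semi 2 (P c h))
    (horb : ∀ h : (Subgroup.centralizer ({z} : Set G)), InSmall c.b (c.pr (h * t * h⁻¹)))
    (S : Subgroup (Subgroup.centralizer ({z} : Set G))) (hS : ∀ h : (Subgroup.centralizer ({z} : Set G)), h ∈ S ↔
      (h * t * h⁻¹ = t ∨ ((h * t * h⁻¹ : (Subgroup.centralizer ({z} : Set G))) : G) = t * z)) :
    Nonempty (↥(S.map (QuotientGroup.mk' Q)) ≃*
      Cfsg.isometryGroup (ZMod 2) (Cfsg.quadFormMinus 2 (ZMod 2) 1 1)) := by
  have hSP : ∀ h : (Subgroup.centralizer ({z} : Set G)), h ∈ S ↔ P c h (c.pr t) = c.pr t := by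
    intro h
    show _ ↔ Pf c h (c.pr t) = c.pr t
    rw [hS, Pf_spec c h htQ, pr_eq_iff c (conj_mem htQ h) htQ]
    have ht' : (t : G) * t = 1 := congrArg Subtype.val ht2
    have hzt : (t : G) * z = z * t := Subgroup.mem_centralizer_singleton_iff.1 t.2
    constructor
    · rintro (e | e)
      · left; rw [e, ht2]; rfl
      · right; rw [Subgroup.coe_mul, e, hzt, mul_assoc, ht', mul_one]
    · rintro (e | e)
      · left
        have e' : h * t * h⁻¹ * t = 1 := Subtype.ext e
        calc h * t * h⁻¹ = h * t * h⁻¹ * (t * t) := by rw [ht2, mul_one]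
          _ = t := by rw [← mul_assoc, e', one_mul]
      · right
        have e' : ((h * t * h⁻¹ : (Subgroup.centralizer ({z} : Set G))) : G) * t = z := e
        calc ((h * t * h⁻¹ : (Subgroup.centralizer ({z} : Set G))) : G) =
            ((h * t * h⁻¹ : (Subgroup.centralizer ({z} : Set G))) : G) * ((t : G) * t) := by rw [ht', mul_one]
          _ = z * t := by rw [← mul_assoc, e']
          _ = t * z := hzt.symm
  obtain ⟨g0, hg0, e0⟩ := hsmall
  rw [← c.range_act] at hg0
  obtain ⟨m, rfl⟩ := hg0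
  have hm0 : P c (m : (Subgroup.centralizer ({z} : Set G))) v0 = c.pr t := by rw [P_act]; exact e0
  have hfix : ∀ h ∈ S, P c ((m : (Subgroup.centralizer ({z} : Set G)))⁻¹ * h * m) v0 = v0 := fun h hh => by
    rw [map_mul, map_mul, Equiv.Perm.mul_apply, Equiv.Perm.mul_apply, hm0, (hSP h).1 hh, map_inv, ← hm0]
    exact Equiv.symm_apply_apply _ _
  let ψ : S →* Stab := MonoidHom.mk'
    (fun h => ⟨P c ((m : (Subgroup.centralizer ({z} : Set G)))⁻¹ * h * m), semi_P c _, hfix h h.2⟩)
    fun g h => Subtype.ext (by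
      show P c _ = P c _ * P c _
      rw [← map_mul, Subgroup.coe_mul]; congr 1; group)
  let Λ : S →* graphAut := lineHom.comp ψ
  haveI : c.M.Normal := Subgroup.normal_of_index_eq_two c.index_M
  have hconj : ∀ h : (Subgroup.centralizer ({z} : Set G)), (m : (Subgroup.centralizer ({z} : Set G)))⁻¹ * h * m ∈ c.M ↔ h ∈ c.M := fun h => by
    rw [Subgroup.mul_mem_cancel_right _ m.2, Subgroup.mul_mem_cancel_left _ (inv_mem m.2)]
  have hker : ∀ h : S, Λ h = 1 ↔ (h : (Subgroup.centralizer ({z} : Set G))) ∈ Q := by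
    intro h
    constructor
    · intro e
      by_cases hM : (h : (Subgroup.centralizer ({z} : Set G))) ∈ c.M
      · set k : c.M := ⟨_, (hconj h).2 hM⟩
        have hk : c.act k ∈ KS c.b := ⟨c.range_act ▸ ⟨k, rfl⟩, by
          have := hfix h h.2
          rwa [show (m : (Subgroup.centralizer ({z} : Set G)))⁻¹ * h * m = (k : (Subgroup.centralizer ({z} : Set G))) from rfl, P_act] at this⟩
        have h1 : lineK c.b ⟨_, hk⟩ = 1 := by
          rw [← e]
          exact congrArg lineHom (Subtype.ext (P_act c k).symm)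
        have h2 := (lineK_facts c.b).1 (h1.trans (map_one _).symm)
        have h3 : ((k : c.M) : (Subgroup.centralizer ({z} : Set G))) ∈ Q := (c.ker_act k).1 (congrArg Subtype.val h2)
        have := conj_mem h3 (m : (Subgroup.centralizer ({z} : Set G)))
        rwa [show (m : (Subgroup.centralizer ({z} : Set G))) * (k : (Subgroup.centralizer ({z} : Set G))) * (m : (Subgroup.centralizer ({z} : Set G)))⁻¹ = (h : (Subgroup.centralizer ({z} : Set G))) by simp only [k]; group] at this
      · exact absurd (hout _ (fun hk => hM ((hconj _).1 hk))) (exp_ne_two (g := ψ h) e)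
    · intro hh
      have : ψ h = 1 := Subtype.ext (P_eq_one c (by
        have := conj_mem hh (m : (Subgroup.centralizer ({z} : Set G)))⁻¹
        rwa [inv_inv] at this))
      show lineHom (ψ h) = 1
      rw [this, map_one]
  obtain ⟨Φ, hΦ⟩ := exists_graph_hom
  have hsub : (lineK c.b).range ≤ Λ.range := by
    rintro _ ⟨g, rfl⟩
    obtain ⟨k, hk⟩ : (g : GS F4) ∈ c.act.range := c.range_act ▸ g.2.1
    have hS' : (m : (Subgroup.centralizer ({z} : Set G))) * k * (m : (Subgroup.centralizer ({z} : Set G)))⁻¹ ∈ S := by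
      rw [hSP, map_mul, map_mul, Equiv.Perm.mul_apply, Equiv.Perm.mul_apply, ← hm0, map_inv,
        Equiv.Perm.inv_def, Equiv.symm_apply_apply, P_act c k, hk]
      exact congrArg _ g.2.2
    refine ⟨⟨_, hS'⟩, congrArg lineHom (Subtype.ext ?_)⟩
    show P c _ = matPerm g.1
    rw [← hk, ← P_act]; congr 1; group
  obtain ⟨h0, hh0⟩ : ∃ h, h ∉ c.M := by
    by_contra hne
    push Not at hne
    have := c.index_M
    rw [(Subgroup.eq_top_iff' c.M).2 hne, Subgroup.index_top] at this
    omega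
  obtain ⟨g1, hg1, e1⟩ := InSmall.trans (horb h0) ⟨_, c.range_act ▸ ⟨m, rfl⟩, e0⟩
  rw [← c.range_act] at hg1
  obtain ⟨n, rfl⟩ := hg1
  have hsS : (n : (Subgroup.centralizer ({z} : Set G))) * h0 ∈ S := by
    rw [hSP, map_mul, Equiv.Perm.mul_apply, P_act]
    show mat _ *ᵥ Pf c h0 _ = _
    rw [Pf_spec c h0 htQ, e1]
  have hnot : Λ ⟨_, hsS⟩ ∉ (lineK c.b).range := by
    rintro ⟨g, hg⟩
    obtain ⟨k, hk⟩ : (g : GS F4) ∈ c.act.range := c.range_act ▸ g.2.1
    have hout' : ψ ⟨_, hsS⟩ * ⟨matPerm g.1, matPerm_mem_Stab g.2.2⟩⁻¹ ∈ lineHom.ker := by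
      rw [MonoidHom.mem_ker, map_mul, map_inv]
      exact mul_inv_eq_one.2 hg.symm
    refine exp_ne_two (MonoidHom.mem_ker.1 hout') ?_
    have e : (ψ ⟨_, hsS⟩ * ⟨matPerm g.1, matPerm_mem_Stab g.2.2⟩⁻¹ : Stab).1 =
        P c ((m : (Subgroup.centralizer ({z} : Set G)))⁻¹ * ((n : (Subgroup.centralizer ({z} : Set G))) * h0) * m * (k : (Subgroup.centralizer ({z} : Set G)))⁻¹) := by
      rw [map_mul, map_inv, P_act c k, hk]; rfl
    rw [e]
    refine hout _ fun hM => hh0 ?_
    rwa [Subgroup.mul_mem_cancel_right _ (inv_mem k.2), hconj,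
      Subgroup.mul_mem_cancel_left _ n.2] at hM
  have hc : Nat.card Λ.range = 51840 := by
    have h1 := Nat.card_le_card_of_injective _ (hΦ.comp Subtype.val_injective : Function.Injective
      (Φ ∘ Subtype.val : Λ.range → _))
    rw [show Nat.card (Cfsg.isometryGroup (ZMod 2) (Cfsg.quadFormMinus 2 (ZMod 2) 1 1)) = 51840 from
      Amalgam.SixMinus.card_O2] at h1
    obtain ⟨hinj, hK⟩ := lineK_facts c.b
    have h2 : Nat.card (lineK c.b).range = 25920 := by
      rw [← Nat.card_congr (MonoidHom.ofInjective hinj).toEquiv, hK]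
    obtain ⟨r, hr⟩ := Subgroup.card_dvd_of_le hsub
    rw [h2] at hr
    have h3 : Nat.card Λ.range ≠ 25920 := fun e => hnot (by
      rw [Subgroup.eq_of_le_of_card_ge hsub (by omega)]
      exact ⟨_, rfl⟩)
    have h4 : 0 < Nat.card Λ.range := Nat.card_pos
    rcases (show r = 0 ∨ r = 1 ∨ 2 ≤ r by omega) with rfl | rfl | hr2 <;> omega
  have hsurj : Function.Surjective (Φ.comp Λ) := by
    have : (Φ.comp Λ).range = ⊤ := Subgroup.eq_top_of_card_eq _ (by
      rw [MonoidHom.range_comp, Subgroup.card_map_of_injective hΦ, hc]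
      exact Amalgam.SixMinus.card_O2.symm)
    exact MonoidHom.range_eq_top.1 this
  let π : S →* S.map (QuotientGroup.mk' Q) := (QuotientGroup.mk' Q).subgroupMap S
  have hπ : Function.Surjective π := MonoidHom.subgroupMap_surjective _ _
  have he : π.ker = (Φ.comp Λ).ker := by
    ext h
    rw [MonoidHom.mem_ker, MonoidHom.mem_ker, MonoidHom.comp_apply, map_eq_one_iff _ hΦ, hker]
    exact ⟨fun e => (QuotientGroup.eq_one_iff _).1 (congrArg Subtype.val e),
      fun e => Subtype.ext ((QuotientGroup.eq_one_iff _).2 e)⟩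
  exact ⟨(QuotientGroup.quotientKerEquivOfSurjective π hπ).symm.trans
    ((QuotientGroup.quotientMulEquivOfEq he).trans
      (QuotientGroup.quotientKerEquivOfSurjective _ hsurj))⟩

/-- The statement about a small involution, from the class and semilinearity facts. -/
theorem iso_of_coord [Finite G] {t : (Subgroup.centralizer ({z} : Set G))} (htQ : t ∈ Q) (ht2 : orderOf t = 2)
    (ht : ¬ IsConj z (t : G))
    (hout : ∀ h, h ∉ c.M → Semi 2 (P c h))
    (hbig : ∀ s ∈ Q, orderOf s = 2 → (s : G) ≠ z → InBig c.b (c.pr s) → IsConj z (s : G))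
    (S : Subgroup (Subgroup.centralizer ({z} : Set G))) (hS : ∀ h : (Subgroup.centralizer ({z} : Set G)), h ∈ S ↔
      (h * t * h⁻¹ = t ∨ ((h * t * h⁻¹ : (Subgroup.centralizer ({z} : Set G))) : G) = t * z)) :
    Nonempty (↥(S.map (QuotientGroup.mk' Q)) ≃*
      Cfsg.isometryGroup (ZMod 2) (Cfsg.quadFormMinus 2 (ZMod 2) 1 1)) := by
  have hsm : ∀ h : (Subgroup.centralizer ({z} : Set G)), InSmall c.b (c.pr (h * t * h⁻¹)) := by
    intro h
    have hmem := conj_mem htQ h
    have ho : orderOf (h * t * h⁻¹) = 2 := by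
      rw [← MulAut.conj_apply, ← MulEquiv.coe_toMonoidHom, orderOf_injective _ (MulEquiv.injective _), ht2]
    have hz : ((h * t * h⁻¹ : (Subgroup.centralizer ({z} : Set G))) : G) ≠ z := fun e => ht ((isConj_iff.2
      ⟨(h : G), e⟩ : IsConj (t : G) z).symm)
    have h2 : h * t * h⁻¹ * (h * t * h⁻¹) = 1 := by rw [← pow_two, ← ho, pow_orderOf_eq_one]
    refine (iso_cases c.b (fun e => ?_) ((c.sq_iff _ hmem).1 h2)).resolve_right fun hb => ?_
    · rcases (c.pr_eq_zero _ hmem).1 e with e | e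
      · rw [OneMemClass.coe_eq_one] at e
        rw [e, orderOf_one] at ho
        omega
      · exact hz e
    · exact ht ((hbig _ hmem ho hz hb).trans (isConj_iff.2 ⟨(h : G), rfl⟩ : IsConj (t : G) _).symm)
  refine iso_of_small c htQ (by rw [← pow_two, ← ht2, pow_orderOf_eq_one]) ?_ hout hsm S hS
  have := hsm 1
  simpa using this

/-- Semilinearity with exponent two, from its statement on `Q`. -/
theorem semi_two {h : (Subgroup.centralizer ({z} : Set G))} (h2 : ∀ q ∈ Q, ∀ r ∈ Q, ∀ a : F4, c.pr r = a • c.pr q →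
    c.pr (h * r * h⁻¹) = a ^ 2 • c.pr (h * q * h⁻¹)) : Semi 2 (P c h) := by
  obtain ⟨e, hs⟩ := semi_P c h
  rcases hs.1 with rfl | rfl
  · exfalso
    have hv : P c h v0 ≠ 0 := fun e0 => (pts_facts 0).2.2.2 0 (by
      have h0 := hs.2.2.1 0 0
      simp only [pow_one, zero_smul] at h0
      have := (P c h).injective (e0.trans h0.symm)
      exact absurd (congrFun this 0) (by decide +kernel))
    have e1 : P c h (om • v0) = om ^ 2 • P c h v0 :=
      h2 _ (sec_mem c v0) _ (sec_mem c _) om (by rw [pr_sec, pr_sec])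
    have := (hs.2.2.1 om v0).symm.trans e1
    rw [pow_one] at this
    exact absurd (smul_left_injective F4 hv this) (by decide)
  · exact hs

end CfsgLib.Trans3.FiLarge.SmallStab
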