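import Cfsg.Agent.Lib.Chev.U43InU6.Code
import Cfsg.Agent.Lib.Trans3.FiLarge.SmallStab.GeoData

/-!
Finite facts about the 45 points and the 27 lines.
-/

set_option autoImplicit false
set_option maxRecDepth 100000

namespace CfsgLib.Trans3.FiLarge.SmallStab

open CfsgLib.Chev.U43U6

/-- The code of a point. -/
def ptv (k : ℕ) : ℕ := pts.getD k 0

/-- The entry of a code. -/
def relE (c : ℕ) : ℕ := Nat.shiftRight relTab (10 * c) % 1024

/-- The point of a code. -/
def relPt (c : ℕ) : ℕ := relE c / 16

/-- A scalar multiple of a point plus a multiple of the standard vector. -/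
def relCode (k a cc : ℕ) : ℕ := Nat.xor (sclV a (ptv k)) (sclV cc 5)

/-- The entry of a code is correct. -/
def relOK (c : ℕ) : Bool :=
  !(Nat.beq (herm c 5) 0 && Nat.beq (herm c c) 0) || ((List.range 4).any fun a => Nat.beq c (sclV a 5)) ||
    (Nat.blt (relPt c) 45 && !Nat.beq (relE c / 4 % 4) 0 &&
      Nat.beq c (relCode (relPt c) (relE c / 4 % 4) (relE c % 4)))

theorem rel_all : ((List.range 4096).all relOK) = true := by decide +kernel

theorem rel_back : ((List.range 45).all fun k => (List.range 4).all fun a => Nat.beq a 0 ||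
    (List.range 4).all fun cc => Nat.beq (relPt (relCode k a cc)) k) = true := by decide +kernel

theorem pts_ok : (Nat.beq (herm 5 5) 0 && (List.range 45).all fun k =>
    Nat.blt (ptv k) 4096 && Nat.beq (herm (ptv k) 5) 0 && Nat.beq (herm (ptv k) (ptv k)) 0 &&
      (List.range 4).all fun a => !Nat.beq (ptv k) (sclV a 5)) = true := by decide +kernel

theorem indep_ok : ((List.range 4).all fun a => (List.range 4).all fun b => (List.range 4).all fun c =>
    !Nat.beq (Nat.xor (Nat.xor (sclV a (ptv 0)) (sclV b (ptv 15))) (sclV c 5)) 0 ||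
      (Nat.beq a 0 && Nat.beq b 0 && Nat.beq c 0)) = true := by decide +kernel

/-- Orthogonality of points. -/
def orth (i j : Fin 45) : Bool := Nat.beq (herm (ptv i) (ptv j)) 0

/-- A point lies on a line. -/
def onLn (k : Fin 45) (l : Fin 27) : Bool := (lns.getD l []).any fun x => Nat.beq x k

/-- The first point of a line. -/
def pA (l : Fin 27) : Fin 45 := ⟨(lns.getD l []).getD 0 0 % 45, Nat.mod_lt _ (by norm_num)⟩

/-- The second point of a line. -/
def pB (l : Fin 27) : Fin 45 := ⟨(lns.getD l []).getD 1 0 % 45, Nat.mod_lt _ (by norm_num)⟩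

/-- The line through two points. -/
def lineOf (i j : Fin 45) : Fin 27 :=
  ⟨(lns.findIdx fun L => (L.any fun x => Nat.beq x i) && L.any fun x => Nat.beq x j) % 27,
    Nat.mod_lt _ (by norm_num)⟩

theorem first_two : ∀ l : Fin 27, onLn (pA l) l = true ∧ onLn (pB l) l = true ∧ pA l ≠ pB l := by
  decide +kernel

theorem on_orth : ∀ (l : Fin 27) (i : Fin 45), onLn i l = true →
    ∀ j : Fin 45, onLn j l = true → orth i j = true := by decide +kernel

theorem line_of : ∀ i j : Fin 45, i ≠ j → orth i j = true →
    onLn i (lineOf i j) = true ∧ onLn j (lineOf i j) = true ∧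
      ∀ k : Fin 45, orth k i = true → orth k j = true → onLn k (lineOf i j) = true := by decide +kernel

theorem line_card : ∀ l : Fin 27, (Finset.univ.filter fun k => onLn k l = true).card = 5 := by
  decide +kernel

theorem line_ext : ∀ l m : Fin 27, (∀ k : Fin 45, onLn k l = onLn k m) → l = m := by decide +kernel

theorem point_ext : ∀ i j : Fin 45, (∀ l : Fin 27, onLn i l = onLn j l) → i = j := by decide +kernel

end CfsgLib.Trans3.FiLarge.SmallStab
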