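import Cfsg.Agent.Lib.Trans3.FiLarge.Coord
import Cfsg.Agent.Lib.Trans3.FiLarge.SmallStab.PointChecks

/-!
Semilinear isometries fixing the standard small vector permute the 45 points of its perpendicular space.
-/

set_option autoImplicit false
set_option linter.unusedSectionVars false

namespace CfsgLib.Trans3.FiLarge.SmallStab

open Matrix CfsgLib.Chev.U43U6
open CfsgLib.InvChar (FQ4)

/-- The standard small vector. -/
def v0 : V6 := vdec om 5

/-- The vector of a point. -/
def pv (k : Fin 45) : V6 := vdec om (ptv k)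

theorem f4_sq_sq : ∀ a : F4, (a ^ 2) ^ 2 = a := by decide

theorem f4_add_sq : ∀ a b : F4, (a + b) ^ 2 = a ^ 2 + b ^ 2 := by decide

theorem f4_self : ∀ a : F4, a + a = 0 := by decide

theorem v6_self (x : V6) : x + x = 0 := funext fun _ => f4_self _

theorem herm6_dec (u w : ℕ) : herm6 (vdec om u) (vdec om w) = dec om (herm u w) :=
  hermForm_dec isOmega_om u w

theorem herm6_add_left (x y w : V6) : herm6 (x + y) w = herm6 x w + herm6 y w := by
  simp only [herm6, Cfsg.hermForm, Pi.add_apply, add_mul, Finset.sum_add_distrib]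

theorem herm6_add_right (w x y : V6) : herm6 w (x + y) = herm6 w x + herm6 w y := by
  simp only [herm6, Cfsg.hermForm, Pi.add_apply, f4_add_sq, mul_add, Finset.sum_add_distrib]

theorem herm6_smul_left (a : F4) (x w : V6) : herm6 (a • x) w = a * herm6 x w := by
  simp only [herm6, Cfsg.hermForm, Pi.smul_apply, smul_eq_mul, Finset.mul_sum]
  exact Finset.sum_congr rfl fun i _ => by ring

theorem herm6_smul_right (a : F4) (w x : V6) : herm6 w (a • x) = a ^ 2 * herm6 w x := by
  simp only [herm6, Cfsg.hermForm, Pi.smul_apply, smul_eq_mul, Finset.mul_sum]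
  exact Finset.sum_congr rfl fun i _ => by ring

theorem herm6_swap (x w : V6) : herm6 x w ^ 2 = herm6 w x := by
  have h : ∀ a b : F4, (a * b ^ 2) ^ 2 = b * a ^ 2 := by decide
  simp only [herm6, Cfsg.hermForm, Fin.sum_univ_six, f4_add_sq, h]

theorem dec_surjF (a : F4) : ∃ k < 4, dec om k = a := dec_surj isOmega_om card_F4 a

theorem of_all {n : ℕ} {f : ℕ → Bool} (h : (List.range n).all f = true) {i : ℕ} (hi : i < n) :
    f i = true := List.all_eq_true.1 h i (List.mem_range.2 hi)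

theorem pts_facts (k : Fin 45) : ptv k < 4096 ∧ herm6 (pv k) v0 = 0 ∧ herm6 (pv k) (pv k) = 0 ∧
    ∀ c : F4, pv k ≠ c • v0 := by
  have h := pts_ok
  simp only [Bool.and_eq_true] at h
  have h' := of_all h.2 k.2
  simp only [Bool.and_eq_true] at h'
  obtain ⟨⟨⟨h1, h2⟩, h3⟩, h4⟩ := h'
  have hlt : ptv k < 4096 := by simpa [Nat.blt] using h1
  refine ⟨hlt, ?_, ?_, fun c e => ?_⟩
  · rw [pv, v0, herm6_dec, Nat.eq_of_beq_eq_true h2, dec_zero]
  · rw [pv, herm6_dec, Nat.eq_of_beq_eq_true h3, dec_zero]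
  · obtain ⟨a, ha, rfl⟩ := dec_surjF c
    rw [pv, v0, ← vdec_scl isOmega_om] at e
    have h5 := of_all h4 ha
    rw [vdec_inj isOmega_om hlt (sclV_lt _ _) e] at h5
    simp at h5

theorem v0_iso : herm6 v0 v0 = 0 := by
  have h := pts_ok
  simp only [Bool.and_eq_true] at h
  rw [v0, herm6_dec, Nat.eq_of_beq_eq_true h.1, dec_zero]

/-- A vector is a multiple of a point modulo the standard vector. -/
def Rel (x : V6) (k : Fin 45) : Prop := ∃ a c : F4, a ≠ 0 ∧ x = a • pv k + c • v0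

theorem rel_self (k : Fin 45) : Rel (pv k) k := ⟨1, 0, one_ne_zero, by simp⟩

theorem rel_relPt {x : V6} {k : Fin 45} (h : Rel x k) {n : ℕ} (hn : n < 4096)
    (hx : vdec om n = x) : relPt n = k := by
  obtain ⟨a, c, ha, rfl⟩ := h
  obtain ⟨a', ha', rfl⟩ := dec_surjF a
  obtain ⟨c', hc', rfl⟩ := dec_surjF c
  rw [pv, v0, ← vdec_scl isOmega_om, ← vdec_scl isOmega_om, ← vdec_xor isOmega_om] at hx
  have e := vdec_inj isOmega_om hn
    (Nat.xor_lt_two_pow (n := 12) (sclV_lt _ _) (sclV_lt _ _)) hx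
  have h' := of_all (of_all rel_back k.2) ha'
  simp only [Bool.or_eq_true] at h'
  rcases h' with h' | h'
  · exact absurd (by rw [Nat.eq_of_beq_eq_true h', dec_zero]) ha
  · rw [e]; exact Nat.eq_of_beq_eq_true (of_all h' hc')

theorem rel_unique {x : V6} {i j : Fin 45} (hi : Rel x i) (hj : Rel x j) : i = j := by
  obtain ⟨n, hn, hx⟩ := vdec_surj isOmega_om card_F4 x
  exact Fin.ext ((rel_relPt hi hn hx).symm.trans (rel_relPt hj hn hx))

theorem rel_exists {x : V6} (h0 : herm6 x v0 = 0) (h1 : herm6 x x = 0) (h2 : ∀ c : F4, x ≠ c • v0) :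
    ∃ k, Rel x k := by
  obtain ⟨n, hn, rfl⟩ := vdec_surj isOmega_om card_F4 x
  have h := of_all rel_all hn
  simp only [relOK, Bool.or_eq_true, Bool.and_eq_true, Bool.not_eq_true'] at h
  have z : ∀ u w, herm6 (vdec om u) (vdec om w) = 0 → Nat.beq (CfsgLib.Chev.U43U6.herm u w) 0 = true := by
    intro u w e
    rw [herm6_dec] at e
    have := dec_inj isOmega_om (herm_lt u w) (b := 0) (by norm_num) (e.trans dec_zero.symm)
    rw [this]; rfl
  rcases h with (h | h) | ⟨⟨hk, ha⟩, he⟩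
  · rw [v0] at h0
    rw [z _ _ h0, z _ _ h1] at h
    exact absurd h (by decide)
  · obtain ⟨a, ha, e⟩ := List.any_eq_true.1 h
    exact absurd (by rw [Nat.eq_of_beq_eq_true e, vdec_scl isOmega_om]; rfl) (h2 (dec om a))
  · have hk' : relPt n < 45 := by simpa [Nat.blt] using hk
    refine ⟨⟨relPt n, hk'⟩, dec om (relE n / 4 % 4), dec om (relE n % 4), fun e => ?_, ?_⟩
    · have := dec_eq_zero isOmega_om e
      rw [Nat.mod_mod] at this
      rw [this] at ha
      simp at ha
    · rw [pv, v0, ← vdec_scl isOmega_om, ← vdec_scl isOmega_om, ← vdec_xor isOmega_om]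
      exact congrArg _ (Nat.eq_of_beq_eq_true he)

theorem indep {a b c : F4} (h : a • pv 0 + b • pv 15 + c • v0 = 0) : a = 0 ∧ b = 0 ∧ c = 0 := by
  obtain ⟨a', ha, rfl⟩ := dec_surjF a
  obtain ⟨b', hb, rfl⟩ := dec_surjF b
  obtain ⟨c', hc, rfl⟩ := dec_surjF c
  rw [pv, pv, v0, ← vdec_scl isOmega_om, ← vdec_scl isOmega_om, ← vdec_scl isOmega_om,
    ← vdec_xor isOmega_om, ← vdec_xor isOmega_om] at h
  have hz : vdec om 0 = 0 := funext fun i => by simp [vdec, crd, dec_zero]
  have e := vdec_inj isOmega_om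
    (Nat.xor_lt_two_pow (n := 12) (Nat.xor_lt_two_pow (sclV_lt _ _) (sclV_lt _ _)) (sclV_lt _ _))
    (by norm_num) (h.trans hz.symm)
  have h' := of_all (of_all (of_all indep_ok ha) hb) hc
  rw [show ((0 : Fin 45) : ℕ) = 0 from rfl, show ((15 : Fin 45) : ℕ) = 15 from rfl] at e
  rw [show Nat.xor (Nat.xor (sclV a' (ptv 0)) (sclV b' (ptv 15))) (sclV c' 5) = 0 from e] at h'
  simp only [Bool.or_eq_true, Bool.and_eq_true] at h'
  rcases h' with h' | ⟨⟨x, y⟩, w⟩
  · simp at h'
  · rw [Nat.eq_of_beq_eq_true x, Nat.eq_of_beq_eq_true y, Nat.eq_of_beq_eq_true w]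
    simp [dec_zero]

end CfsgLib.Trans3.FiLarge.SmallStab
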