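import Cfsg.Agent.Lib.Trans3.FiLarge.SmallStab.Lines
import Cfsg.Agent.Lib.Trans3.FiLarge.SmallStab.Points

/-!
The action of the stabiliser of the standard small vector on the 27 lines.
-/

set_option autoImplicit false
set_option linter.unusedSectionVars false
set_option synthInstance.maxSize 4096

namespace CfsgLib.Trans3.FiLarge.SmallStab

open Matrix CfsgLib.Chev.U43U6

/-- The semilinear isometries, with their exponent. -/
def Semi (e : ℕ) (g : V6 → V6) : Prop :=
  (e = 1 ∨ e = 2) ∧ (∀ x y, g (x + y) = g x + g y) ∧ (∀ (a : F4) x, g (a • x) = a ^ e • g x) ∧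
    ∀ x y, herm6 (g x) (g y) = herm6 x y ^ e

theorem pow_pow_self {e : ℕ} (he : e = 1 ∨ e = 2) (a : F4) : (a ^ e) ^ e = a := by
  rcases he with rfl | rfl
  · simp
  · exact f4_sq_sq a

/-- The semilinear isometries fixing the standard vector. -/
def Stab : Subgroup (Equiv.Perm V6) where
  carrier := {g | (∃ e, Semi e g) ∧ g v0 = v0}
  one_mem' := ⟨⟨1, Or.inl rfl, fun _ _ => rfl, fun a x => by simp, fun x y => by simp⟩, rfl⟩
  mul_mem' {g h} := by
    rintro ⟨⟨e, he, ga, gs, gh⟩, g0⟩ ⟨⟨e', he', ha, hs, hh⟩, h0⟩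
    refine ⟨?_, by rw [Equiv.Perm.mul_apply, h0, g0]⟩
    have key : ∃ f, (f = 1 ∨ f = 2) ∧ ∀ a : F4, (a ^ e') ^ e = a ^ f := by
      rcases he with rfl | rfl <;> rcases he' with rfl | rfl
      · exact ⟨1, Or.inl rfl, fun a => by simp⟩
      · exact ⟨2, Or.inr rfl, fun a => by simp⟩
      · exact ⟨2, Or.inr rfl, fun a => by simp⟩
      · exact ⟨1, Or.inl rfl, fun a => by rw [f4_sq_sq, pow_one]⟩
    obtain ⟨f, hf, hp⟩ := key
    exact ⟨f, hf, fun x y => by simp only [Equiv.Perm.mul_apply, ha, ga],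
      fun a x => by simp only [Equiv.Perm.mul_apply, hs, gs, hp],
      fun x y => by simp only [Equiv.Perm.mul_apply, gh, hh, hp]⟩
  inv_mem' {g} := by
    rintro ⟨⟨e, he, ga, gs, gh⟩, g0⟩
    have hr : ∀ x, g (g⁻¹ x) = x := fun x => Equiv.apply_symm_apply g x
    refine ⟨⟨e, he, fun x y => ?_, fun a x => ?_, fun x y => ?_⟩, ?_⟩
    · apply g.injective; rw [hr, ga, hr, hr]
    · apply g.injective; rw [hr, gs, hr, pow_pow_self he]
    · calc herm6 (g⁻¹ x) (g⁻¹ y) = (herm6 (g⁻¹ x) (g⁻¹ y) ^ e) ^ e := (pow_pow_self he _).symm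
        _ = herm6 x y ^ e := by rw [← gh, hr, hr]
    · conv_lhs => rw [← g0]
      exact Equiv.symm_apply_apply g v0

theorem pow_eq_zero_iff' {e : ℕ} (he : e = 1 ∨ e = 2) (a : F4) : a ^ e = 0 ↔ a = 0 := by
  rcases he with rfl | rfl <;> simp

theorem exists_sigma (g : Stab) (k : Fin 45) : ∃ j, Rel (g.1 (pv k)) j := by
  obtain ⟨⟨e, he, ga, gs, gh⟩, g0⟩ := g.2
  obtain ⟨-, p0, p1, p2⟩ := pts_facts k
  refine rel_exists ?_ ?_ fun c h => p2 (c ^ e) ?_
  · conv_lhs => arg 2; rw [← g0]
    rw [gh, p0, (pow_eq_zero_iff' he _).2 rfl]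
  · rw [gh, p1, (pow_eq_zero_iff' he _).2 rfl]
  · apply g.1.injective
    rw [gs, pow_pow_self he, g0, h]

/-- The image of a point. -/
noncomputable def sigmaFun (g : Stab) (k : Fin 45) : Fin 45 := (exists_sigma g k).choose

theorem sigma_spec (g : Stab) (k : Fin 45) : Rel (g.1 (pv k)) (sigmaFun g k) :=
  (exists_sigma g k).choose_spec

theorem rel_map (g : Stab) {x : V6} {k : Fin 45} (h : Rel x k) : Rel (g.1 x) (sigmaFun g k) := by
  obtain ⟨⟨e, he, ga, gs, gh⟩, g0⟩ := g.2
  obtain ⟨a, c, ha, rfl⟩ := h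
  obtain ⟨a', c', ha', h'⟩ := sigma_spec g k
  refine ⟨a ^ e * a', a ^ e * c' + c ^ e, mul_ne_zero (fun z => ha ((pow_eq_zero_iff' he a).1 z)) ha', ?_⟩
  rw [ga, gs, gs, g0, h', smul_add, smul_smul, smul_smul, add_smul, add_assoc]

theorem sigma_mul (g h : Stab) (k : Fin 45) : sigmaFun (g * h) k = sigmaFun g (sigmaFun h k) :=
  rel_unique (sigma_spec (g * h) k) (rel_map g (sigma_spec h k))

theorem sigma_one (k : Fin 45) : sigmaFun 1 k = k := rel_unique (sigma_spec 1 k) (rel_self k)

theorem sigma_orth (g : Stab) (i j : Fin 45) :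
    SmallStab.orth (sigmaFun g i) (sigmaFun g j) = SmallStab.orth i j := by
  obtain ⟨⟨e, he, ga, gs, gh⟩, g0⟩ := g.2
  have orth_iff : ∀ i j : Fin 45, SmallStab.orth i j = true ↔ herm6 (pv i) (pv j) = 0 := fun i j => by
    rw [pv, pv, herm6_dec]
    constructor
    · intro h; rw [Nat.eq_of_beq_eq_true h, dec_zero]
    · intro h
      have := dec_inj isOmega_om (herm_lt _ _) (b := 0) (by norm_num) (h.trans dec_zero.symm)
      rw [SmallStab.orth, this]; rfl
  obtain ⟨a, c, ha, h1⟩ := sigma_spec g i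
  obtain ⟨b, d, hb, h2⟩ := sigma_spec g j
  have e1 := gh (pv i) (pv j)
  have z : ∀ k, herm6 v0 (pv k) = 0 := fun k => by
    rw [← herm6_swap, (pts_facts k).2.1, zero_pow two_ne_zero]
  rw [h1, h2] at e1
  simp only [herm6_add_left, herm6_add_right, herm6_smul_left, herm6_smul_right, (pts_facts _).2.1,
    z, v0_iso, mul_zero, add_zero] at e1
  refine Bool.eq_iff_iff.2 ((orth_iff _ _).trans (Iff.trans ?_ (orth_iff _ _).symm))
  rw [← pow_eq_zero_iff' he (herm6 (pv i) (pv j)), ← e1]
  simp [ha, hb]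

/-- The permutation of the points. -/
noncomputable def sigma : Stab →* Equiv.Perm (Fin 45) where
  toFun g :=
    { toFun := sigmaFun g
      invFun := sigmaFun g⁻¹
      left_inv := fun k => by rw [← sigma_mul, inv_mul_cancel, sigma_one]
      right_inv := fun k => by rw [← sigma_mul, mul_inv_cancel, sigma_one] }
  map_one' := Equiv.ext sigma_one
  map_mul' g h := Equiv.ext (sigma_mul g h)

/-- The permutations preserving orthogonality. -/
def ptAut : Subgroup (Equiv.Perm (Fin 45)) where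
  carrier := {s | ∀ i j, SmallStab.orth (s i) (s j) = SmallStab.orth i j}
  one_mem' := fun _ _ => rfl
  mul_mem' {a b} ha hb := fun i j => (ha (b i) (b j)).trans (hb i j)
  inv_mem' {a} ha := fun i j => by
    have := ha (a⁻¹ i) (a⁻¹ j)
    rw [show a (a⁻¹ i) = i from Equiv.apply_symm_apply a i,
      show a (a⁻¹ j) = j from Equiv.apply_symm_apply a j] at this
    exact this.symm

/-- The image of a line. -/
def lam (s : Equiv.Perm (Fin 45)) (l : Fin 27) : Fin 27 := lineOf (s (pA l)) (s (pB l))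

theorem lam_spec {s : Equiv.Perm (Fin 45)} (hs : s ∈ ptAut) (l : Fin 27) (k : Fin 45) :
    onLn (s k) (lam s l) = onLn k l := by
  have hne : s (pA l) ≠ s (pB l) := fun e => (first_two l).2.2 (s.injective e)
  have ho : ∀ i j, onLn i l = true → onLn j l = true → SmallStab.orth (s i) (s j) = true :=
    fun i j hi hj => (hs i j).trans (on_orth l i hi j hj)
  obtain ⟨-, -, hk⟩ := line_of _ _ hne (ho _ _ (first_two l).1 (first_two l).2.1)
  have hsub : (Finset.univ.filter fun k => onLn k l = true).image s ⊆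
      Finset.univ.filter fun k => onLn k (lam s l) = true := by
    intro x hx
    obtain ⟨i, hi, rfl⟩ := Finset.mem_image.1 hx
    rw [Finset.mem_filter] at hi
    exact Finset.mem_filter.2 ⟨Finset.mem_univ _,
      hk _ (ho _ _ hi.2 (first_two l).1) (ho _ _ hi.2 (first_two l).2.1)⟩
  have heq := Finset.eq_of_subset_of_card_le hsub
    (by rw [Finset.card_image_of_injective _ s.injective, line_card, line_card])
  have h := Finset.ext_iff.1 heq (s k)
  simp only [Finset.mem_filter, Finset.mem_univ, true_and, Finset.mem_image] at h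
  refine Bool.eq_iff_iff.2 (h.symm.trans ⟨?_, fun hk => ⟨k, hk, rfl⟩⟩)
  rintro ⟨i, hi, e⟩
  rwa [← s.injective e]

theorem lam_mul {s t : Equiv.Perm (Fin 45)} (hs : s ∈ ptAut) (ht : t ∈ ptAut) (l : Fin 27) :
    lam (s * t) l = lam s (lam t l) := by
  refine line_ext _ _ fun k => ?_
  have e : k = (s * t) ((s * t)⁻¹ k) := (Equiv.apply_symm_apply _ k).symm
  rw [e, lam_spec (ptAut.mul_mem hs ht), Equiv.Perm.mul_apply, lam_spec hs, lam_spec ht]

theorem lam_one (l : Fin 27) : lam 1 l = l :=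
  line_ext _ _ fun k => (lam_spec ptAut.one_mem l k)

theorem meet_iff : ∀ i j : Fin 27, meet i j = true ↔ i ≠ j ∧ ∃ k : Fin 45, onLn k i = true ∧ onLn k j = true := by
  decide +kernel

/-- The permutation of the lines. -/
noncomputable def lineHom : Stab →* graphAut :=
  have hs : ∀ g, sigma g ∈ ptAut := fun g i j => sigma_orth g i j
  MonoidHom.mk'
    (fun g => ⟨{ toFun := lam (sigma g)
                 invFun := lam (sigma g⁻¹)
                 left_inv := fun l => by
                   rw [← lam_mul (hs _) (hs _), ← map_mul, inv_mul_cancel, map_one, lam_one]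
                 right_inv := fun l => by
                   rw [← lam_mul (hs _) (hs _), ← map_mul, mul_inv_cancel, map_one, lam_one] },
      fun i j => by
        have hinj : ∀ a b, lam (sigma g) a = lam (sigma g) b → a = b := fun a b e =>
          line_ext _ _ fun k => by rw [← lam_spec (hs g) a, ← lam_spec (hs g) b, e]
        refine Bool.eq_iff_iff.2 ((meet_iff _ _).trans (Iff.trans ?_ (meet_iff _ _).symm))
        show lam (sigma g) i ≠ lam (sigma g) j ∧ _ ↔ _
        constructor
        · rintro ⟨hne, k, h1, h2⟩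
          refine ⟨fun e => hne (e ▸ rfl), (sigma g)⁻¹ k, ?_, ?_⟩
          · rw [← lam_spec (hs g) i, show sigma g ((sigma g)⁻¹ k) = k from Equiv.apply_symm_apply _ k]; exact h1
          · rw [← lam_spec (hs g) j, show sigma g ((sigma g)⁻¹ k) = k from Equiv.apply_symm_apply _ k]; exact h2
        · rintro ⟨hne, k, h1, h2⟩
          exact ⟨fun e => hne (hinj _ _ e), sigma g k, (lam_spec (hs g) i k).trans h1,
            (lam_spec (hs g) j k).trans h2⟩⟩)
    fun g h => Subtype.ext (Equiv.ext fun l => by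
      show lam (sigma (g * h)) l = lam (sigma g) (lam (sigma h) l)
      rw [map_mul, lam_mul (hs g) (hs h)])

theorem lineHom_apply (g : Stab) (l : Fin 27) :
    (lineHom g).1 l = lineOf (sigmaFun g (pA l)) (sigmaFun g (pB l)) := rfl

theorem sigma_eq_one {g : Stab} (h : lineHom g = 1) (k : Fin 45) : sigmaFun g k = k := by
  refine point_ext _ _ fun l => ?_
  have hl : lam (sigma g) l = l := congrArg (fun p : graphAut => p.1 l) h
  have := lam_spec (s := sigma g) (fun i j => sigma_orth g i j) l k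
  rwa [hl] at this

theorem exp_ne_two {g : Stab} (h : lineHom g = 1) : ¬ Semi 2 g.1 := by
  rintro ⟨-, ga, gs, gh⟩
  obtain ⟨a, c, ha, h0⟩ : Rel (g.1 (pv 0)) 0 := by
    have := sigma_spec g 0; rwa [sigma_eq_one h] at this
  obtain ⟨b, d, hb, h15⟩ : Rel (g.1 (pv 15)) 15 := by
    have := sigma_spec g 15; rwa [sigma_eq_one h] at this
  have key : ∀ t : F4, t ≠ 0 → t ^ 2 * b = a * t := by
    intro t ht
    have ho : herm6 (pv 0) (pv 15) = 0 := by
      rw [pv, pv, herm6_dec, show CfsgLib.Chev.U43U6.herm (ptv ((0 : Fin 45) : ℕ)) (ptv ((15 : Fin 45) : ℕ)) = 0 by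
        decide +kernel, dec_zero]
    have ho' : herm6 (pv 15) (pv 0) = 0 := by rw [← herm6_swap, ho, zero_pow two_ne_zero]
    obtain ⟨j, hj⟩ := rel_exists (x := pv 0 + t • pv 15)
      (by simp only [herm6_add_left, herm6_smul_left, (pts_facts _).2.1, mul_zero, add_zero])
      (by simp only [herm6_add_left, herm6_add_right, herm6_smul_left, herm6_smul_right, ho, ho',
          (pts_facts _).2.2.1, mul_zero, add_zero])
      (fun u e => one_ne_zero (indep (a := 1) (b := t) (c := u) (by
        rw [one_smul, e, v6_self])).1)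
    have hg := rel_map g hj
    rw [sigma_eq_one h] at hg
    obtain ⟨u, w, hu, hx⟩ := hj
    obtain ⟨u', w', hu', hgx⟩ := hg
    have hp : pv j = u⁻¹ • (pv 0 + t • pv 15) + (u⁻¹ * w) • v0 := by
      rw [hx, smul_add, smul_smul, smul_smul, inv_mul_cancel₀ hu, one_smul, add_assoc, v6_self,
        add_zero]
    rw [ga, gs, h0, h15, hp] at hgx
    set s := u' * u⁻¹
    have e : (a + s) • pv 0 + (t ^ 2 * b + s * t) • pv 15 +
        (c + t ^ 2 * d + u' * (u⁻¹ * w) + w') • v0 = 0 := by
      calc _ = (a • pv 0 + c • v0 + t ^ 2 • (b • pv 15 + d • v0)) +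
            (u' • (u⁻¹ • (pv 0 + t • pv 15) + (u⁻¹ * w) • v0) + w' • v0) := by module
        _ = 0 := by rw [← hgx, v6_self]
    obtain ⟨e1, e2, -⟩ := indep e
    have c1 : ∀ x y : F4, x + y = 0 → x = y := by decide
    rw [c1 _ _ e1]
    exact c1 _ _ e2
  have h1 := key 1 one_ne_zero
  have hw := key om (by decide)
  rw [one_pow, one_mul, mul_one] at h1
  subst h1
  have h2 : om ^ 2 = om := mul_right_cancel₀ hb (hw.trans (mul_comm _ _))
  exact absurd h2 (by decide)

end CfsgLib.Trans3.FiLarge.SmallStab
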