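import Cfsg.Agent.Lib.Chev.U43InU6.KChecks
import Cfsg.Agent.Lib.Trans3.FiLarge.SmallStab.PointChecks
import Cfsg.Agent.Lib.Trans3.FiLarge.SmallStab.StabData0
import Cfsg.Agent.Lib.Trans3.FiLarge.SmallStab.StabData1
import Cfsg.Agent.Lib.Trans3.FiLarge.SmallStab.StabData2

/-!
Finite checks: the products reach 378 vectors, and their chain gives 25920 permutations of the lines.
-/

set_option autoImplicit false
set_option maxRecDepth 100000

namespace CfsgLib.Trans3.FiLarge.SmallStab

open CfsgLib.Chev.U43U6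

/-- The products. -/
def nodesB : ℕ → List (List ℕ × ℕ × ℕ)
  | 0 => nodes0
  | 1 => nodes1
  | _ => nodes2

/-- The products reaching the orbit. -/
def orbitB : ℕ → List ℕ
  | 0 => orbit0
  | 1 => orbit1
  | _ => orbit2

/-- The chain. -/
def chainB : ℕ → List (ℕ × List ℕ)
  | 0 => chain0
  | 1 => chain1
  | _ => chain2

/-- A node. -/
def node (b k : ℕ) : List ℕ × ℕ × ℕ := (nodesB b).getD k ([], 0, 0)

/-- The matrix of a node. -/
def nMat (b k : ℕ) : List ℕ := (node b k).1

/-- Two lists of numbers are equal. -/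
def eqL : List ℕ → List ℕ → Bool
  | [], [] => true
  | x :: L, y :: M => Nat.beq x y && eqL L M
  | _, _ => false

theorem eqL_eq : ∀ {L M : List ℕ}, eqL L M = true → L = M
  | [], [], _ => rfl
  | x :: L, y :: M, h => by
    simp only [eqL, Bool.and_eq_true] at h
    rw [Nat.eq_of_beq_eq_true h.1, eqL_eq h.2]
  | [], _ :: _, h => by simp [eqL] at h
  | _ :: _, [], h => by simp [eqL] at h

/-- The node is a product of earlier ones, or one of the three generators. -/
def nodeOK (b k : ℕ) : Bool :=
  if Nat.blt k 3 then eqL (nMat b k) (((kMat b) ++ [scalM]).getD k []) else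
    Nat.blt (node b k).2.1 k && Nat.blt (node b k).2.2 k && Nat.beq (nMat b (node b k).2.2).length 6 &&
      eqL (nMat b k) ((nMat b (node b k).2.2).map (mulV (nMat b (node b k).2.1)))

/-- The products are valid and reach 378 vectors. -/
def orbitOK (b : ℕ) : Bool :=
  ((List.range (nodesB b).length).all (nodeOK b)) && (orbitB b).all (fun k => Nat.blt k (nodesB b).length) &&
    Nat.beq (orbitB b).length 378 && distinct ((orbitB b).map fun k => mulV (nMat b k) 5)

/-- The image of a line under a matrix. -/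
def lamC (m : List ℕ) (l : Fin 27) : Fin 27 :=
  lineOf ⟨relPt (mulV m (ptv (pA l))) % 45, Nat.mod_lt _ (by norm_num)⟩
    ⟨relPt (mulV m (ptv (pB l))) % 45, Nat.mod_lt _ (by norm_num)⟩

/-- A line from a number. -/
def lnN (p : ℕ) : Fin 27 := ⟨p % 27, Nat.mod_lt _ (by norm_num)⟩

/-- A chain of transversals. -/
def chainOK (b : ℕ) : List (Fin 27) → List (ℕ × List ℕ) → Bool
  | _, [] => true
  | prev, (p, T) :: rest =>
    (T.all fun k => Nat.blt k (nodesB b).length && Nat.beq (mulV (nMat b k) 5) 5 &&
        prev.all fun q => Nat.beq (lamC (nMat b k) q) q) &&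
      distinct (T.map fun k => (lamC (nMat b k) (lnN p)).val) && chainOK b (lnN p :: prev) rest

/-- The product of the sizes. -/
def chainSize : List (ℕ × List ℕ) → ℕ
  | [] => 1
  | (_, T) :: rest => T.length * chainSize rest

theorem orbit0_ok : orbitOK 0 = true := by decide +kernel

theorem orbit1_ok : orbitOK 1 = true := by decide +kernel

theorem orbit2_ok : orbitOK 2 = true := by decide +kernel

theorem chain0_ok : chainOK 0 [] (chainB 0) = true ∧ chainSize (chainB 0) = 25920 := by decide +kernel

theorem chain1_ok : chainOK 1 [] (chainB 1) = true ∧ chainSize (chainB 1) = 25920 := by decide +kernel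

theorem chain2_ok : chainOK 2 [] (chainB 2) = true ∧ chainSize (chainB 2) = 25920 := by decide +kernel

theorem orbit_ok : ∀ b : Fin 3, orbitOK b = true
  | ⟨0, _⟩ => orbit0_ok
  | ⟨1, _⟩ => orbit1_ok
  | ⟨2, _⟩ => orbit2_ok

theorem chain_ok : ∀ b : Fin 3, chainOK b [] (chainB b) = true ∧ chainSize (chainB b) = 25920
  | ⟨0, _⟩ => chain0_ok
  | ⟨1, _⟩ => chain1_ok
  | ⟨2, _⟩ => chain2_ok

end CfsgLib.Trans3.FiLarge.SmallStab
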