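import Cfsg.Agent.Lib.Trans3.FiLarge.Orbits
import Cfsg.Agent.Lib.Trans3.FiLarge.SmallStab.Model
import Cfsg.Agent.Lib.Trans3.FiLarge.SmallStab.StabChecks

/-!
The stabiliser of the standard small vector in each cover acts faithfully on the lines, with order 25920.
-/

set_option autoImplicit false
set_option linter.unusedSectionVars false
set_option synthInstance.maxSize 4096

namespace CfsgLib.Trans3.FiLarge.SmallStab

open Matrix CfsgLib.Chev.U43U6

theorem mat_mul (g h : GS F4) : mat (g * h) = mat g * mat h := rfl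

theorem mat_one : mat (1 : GS F4) = 1 := rfl

theorem mdec_map (A B : List ℕ) (hB : B.length = 6) :
    mdec om (B.map (mulV A)) = mdec om A * mdec om B := by
  ext r c
  have h := congrFun (vdec_mulV isOmega_om A (colM B c)) r
  simp only [mdec, Matrix.mul_apply]
  refine Eq.trans ?_ h
  show dec om _ = dec om _
  have hc : (c : ℕ) < B.length := by rw [hB]; exact c.2
  simp [colM, List.getD_eq_getElem?_getD, hc]

theorem gen_mem (b : Fin 3) {k : ℕ} (hk : k < 3) :
    ∃ g ∈ K b, mat g = mdec om (((kMat b) ++ [scalM]).getD k []) := by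
  refine ⟨genEl b ⟨k, hk⟩, genEl_mem _ _, (genEl_mat _ _).trans ?_⟩
  fin_cases b <;> interval_cases k <;> rfl

theorem node_mem (b : Fin 3) : ∀ k, k < (nodesB b).length →
    ∃ g ∈ K b, mat g = mdec om (nMat b k) := by
  intro k
  induction k using Nat.strong_induction_on with
  | _ k ih =>
    intro hk
    have h := orbit_ok b
    simp only [orbitOK, Bool.and_eq_true] at h
    have h' := of_all h.1.1.1 hk
    unfold nodeOK at h'
    split at h'
    · next hlt =>
      rw [eqL_eq h']
      exact gen_mem b (by simpa [Nat.blt] using hlt)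
    · simp only [Bool.and_eq_true] at h'
      obtain ⟨⟨⟨hi, hj⟩, hl⟩, he⟩ := h'
      have hi' : (node b k).2.1 < k := by simpa [Nat.blt] using hi
      have hj' : (node b k).2.2 < k := by simpa [Nat.blt] using hj
      obtain ⟨g, hg, eg⟩ := ih _ hi' (hi'.trans hk)
      obtain ⟨g', hg', eg'⟩ := ih _ hj' (hj'.trans hk)
      exact ⟨g * g', mul_mem hg hg',
        by rw [mat_mul, eg, eg', eqL_eq he, mdec_map _ _ (Nat.eq_of_beq_eq_true hl)]⟩

/-- The linear maps. -/
noncomputable def matPerm : GS F4 →* Equiv.Perm V6 where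
  toFun g :=
    { toFun := fun v => mat g *ᵥ v
      invFun := fun v => mat g⁻¹ *ᵥ v
      left_inv := fun v => by
        show mat g⁻¹ *ᵥ (mat g *ᵥ v) = v
        rw [mulVec_mulVec, ← mat_mul, inv_mul_cancel, mat_one, one_mulVec]
      right_inv := fun v => by
        show mat g *ᵥ (mat g⁻¹ *ᵥ v) = v
        rw [mulVec_mulVec, ← mat_mul, mul_inv_cancel, mat_one, one_mulVec] }
  map_one' := Equiv.ext fun v => by show mat (1 : GS F4) *ᵥ v = v; rw [mat_one, one_mulVec]
  map_mul' g h := Equiv.ext fun v => by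
    show mat (g * h) *ᵥ v = mat g *ᵥ (mat h *ᵥ v)
    rw [mat_mul, mulVec_mulVec]

/-- The stabiliser in a cover. -/
noncomputable def KS (b : Fin 3) : Subgroup (GS F4) where
  carrier := {g | g ∈ K b ∧ mat g *ᵥ v0 = v0}
  one_mem' := ⟨one_mem _, by rw [mat_one, one_mulVec]⟩
  mul_mem' {g h} hg hh := ⟨mul_mem hg.1 hh.1, by rw [mat_mul, ← mulVec_mulVec, hh.2, hg.2]⟩
  inv_mem' {g} hg := ⟨inv_mem hg.1, by
    conv_lhs => rw [← hg.2]
    rw [mulVec_mulVec, ← mat_mul, inv_mul_cancel, mat_one, one_mulVec]⟩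

theorem matPerm_mem_Stab {g : GS F4} (hg : mat g *ᵥ v0 = v0) : matPerm g ∈ Stab :=
  ⟨⟨1, Or.inl rfl, fun x y => mulVec_add (mat g) x y, fun a x => by
    rw [pow_one]; exact mulVec_smul (mat g) a x, fun x y => by rw [pow_one]; exact herm_mat g x y⟩, hg⟩

/-- The action of the stabiliser on the lines. -/
noncomputable def lineK (b : Fin 3) : KS b →* graphAut :=
  lineHom.comp (MonoidHom.mk' (fun g => (⟨matPerm g.1, matPerm_mem_Stab g.2.2⟩ : Stab))
    fun g h => Subtype.ext (map_mul matPerm g.1 h.1))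

/-- Counting with the help of a function constant on cosets. -/
theorem card_ge_mul {X : Type*} [Group X] [Finite X] {β : Type*} (H H' : Subgroup X) (hle : H' ≤ H)
    (f : X → β) (hf : ∀ x ∈ H, ∀ y ∈ H', f (x * y) = f x) {n : ℕ} (T : Fin n → X)
    (hT : ∀ i, T i ∈ H) (hinj : Function.Injective (f ∘ T)) :
    n * Nat.card H' ≤ Nat.card H := by
  have h : Function.Injective
      (fun p : Fin n × H' => (⟨T p.1 * p.2.1, H.mul_mem (hT _) (hle p.2.2)⟩ : H)) := by
    rintro ⟨i, s⟩ ⟨j, u⟩ e
    have e' : T i * s.1 = T j * u.1 := congrArg Subtype.val e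
    have ij : i = j := hinj (by
      show f (T i) = f (T j)
      rw [← hf _ (hT i) _ s.2, e', hf _ (hT j) _ u.2])
    subst ij
    exact Prod.ext rfl (Subtype.ext (mul_left_cancel e'))
  have := Nat.card_le_card_of_injective _ h
  rwa [Nat.card_prod, Nat.card_eq_fintype_card, Fintype.card_fin] at this

theorem card_KS_le (b : Fin 3) : Nat.card (KS b) ≤ 25920 := by
  have h := orbit_ok b
  simp only [orbitOK, Bool.and_eq_true, List.all_eq_true] at h
  obtain ⟨⟨⟨-, hidx⟩, hlen⟩, hd⟩ := h
  have hl : (orbitB b).length = 378 := Nat.eq_of_beq_eq_true hlen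
  choose g hg eg using fun i : Fin 378 => node_mem b ((orbitB b)[(i : ℕ)]'(hl.symm ▸ i.2))
    (by simpa [Nat.blt] using hidx _ (List.getElem_mem _))
  have hle : KS b ≤ K b := fun x hx => hx.1
  have := card_ge_mul (K b) (KS b) hle (fun x => mat x *ᵥ v0)
    (fun x _ y hy => by show mat (x * y) *ᵥ v0 = mat x *ᵥ v0; rw [mat_mul, ← mulVec_mulVec, hy.2])
    g hg (fun i j e => by
      simp only [Function.comp, eg, v0, ← vdec_mulV isOmega_om] at e
      have hlt : ∀ m c, mulV m c < 4096 := fun m c => by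
        simp only [mulV]
        repeat' apply Nat.xor_lt_two_pow (n := 12)
        all_goals exact sclV_lt _ _
      have e' := vdec_inj isOmega_om (hlt _ _) (hlt _ _) e
      have hn := distinct_nodup hd
      refine Fin.ext ((hn.getElem_inj_iff (i := i.1) (j := j.1) (hi := by simp [hl]) (hj := by simp [hl])).1 ?_)
      simpa using e')
  rw [show Nat.card (K b) = 9797760 from card_Kb isOmega_om card_F4 b] at this
  omega

theorem lineK_code (b : Fin 3) (g : KS b) {m : List ℕ} (hm : mat g.1 = mdec om m) (l : Fin 27) :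
    (lineK b g).1 l = lamC m l := by
  have hp : ∀ k : Fin 45, sigmaFun ⟨matPerm g.1, matPerm_mem_Stab g.2.2⟩ k =
      ⟨relPt (mulV m (ptv k)) % 45, Nat.mod_lt _ (by norm_num)⟩ := by
    intro k
    have h := sigma_spec ⟨matPerm g.1, matPerm_mem_Stab g.2.2⟩ k
    have hlt : mulV m (ptv k) < 4096 := by
      simp only [mulV]
      repeat' apply Nat.xor_lt_two_pow (n := 12)
      all_goals exact sclV_lt _ _
    have := rel_relPt h hlt (by rw [vdec_mulV isOmega_om, ← hm]; rfl)
    exact Fin.ext (by show _ = relPt _ % 45; rw [this, Nat.mod_eq_of_lt (Fin.isLt _)])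
  show (lineHom _).1 l = _
  rw [lineHom_apply, lamC]
  exact congrArg₂ lineOf (hp _) (hp _)

/-- The elements of the image fixing some lines. -/
def fixing (R : Subgroup graphAut) (prev : List (Fin 27)) : Subgroup graphAut where
  carrier := {x | x ∈ R ∧ ∀ q ∈ prev, x.1 q = q}
  one_mem' := ⟨one_mem _, fun _ _ => rfl⟩
  mul_mem' {x y} hx hy := ⟨mul_mem hx.1 hy.1, fun q hq => by
    show x.1 (y.1 q) = q
    rw [hy.2 q hq, hx.2 q hq]⟩
  inv_mem' {x} hx := ⟨inv_mem hx.1, fun q hq => by
    show x.1⁻¹ q = q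
    conv_lhs => rw [← hx.2 q hq]
    exact Equiv.symm_apply_apply _ _⟩

theorem chain_le (b : Fin 3) : ∀ (C : List (ℕ × List ℕ)) (prev : List (Fin 27)), chainOK b prev C = true →
    chainSize C ≤ Nat.card (fixing (lineK b).range prev)
  | [], prev, _ => Nat.card_pos
  | (p, T) :: rest, prev, h => by
    simp only [chainOK, Bool.and_eq_true, List.all_eq_true] at h
    obtain ⟨⟨hT, hd⟩, hrest⟩ := h
    have ih := chain_le b rest _ hrest
    have key : ∀ i : Fin T.length, ∃ x ∈ fixing (lineK b).range prev,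
        (x.1 (lnN p)).val = (lamC (nMat b T[(i : ℕ)]) (lnN p)).val := by
      intro i
      obtain ⟨⟨hk, h5⟩, hq⟩ := hT _ (List.getElem_mem i.2)
      obtain ⟨g, hg, eg⟩ := node_mem b T[(i : ℕ)] (by simpa [Nat.blt] using hk)
      have hfix : mat g *ᵥ v0 = v0 := by
        rw [eg, v0, ← vdec_mulV isOmega_om, Nat.eq_of_beq_eq_true h5]
      refine ⟨lineK b ⟨g, hg, hfix⟩, ⟨⟨_, rfl⟩, fun q hq' => ?_⟩, ?_⟩
      · rw [lineK_code b _ eg]
        exact Fin.ext (Nat.eq_of_beq_eq_true (hq q hq'))
      · rw [lineK_code b _ eg]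
    choose x hx ex using key
    have hle : fixing (lineK b).range (lnN p :: prev) ≤ fixing (lineK b).range prev :=
      fun y hy => ⟨hy.1, fun q hq => hy.2 q (List.mem_cons_of_mem _ hq)⟩
    have := card_ge_mul _ _ hle (fun y : graphAut => y.1 (lnN p))
      (fun y _ u hu => by
        show y.1 (u.1 (lnN p)) = y.1 (lnN p)
        rw [hu.2 _ (List.mem_cons_self ..)])
      x hx (fun i j e => by
        have e' := congrArg Fin.val e
        simp only [Function.comp, ex] at e'
        have hn := distinct_nodup hd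
        refine Fin.ext ((hn.getElem_inj_iff (i := i.1) (j := j.1) (hi := by simp) (hj := by simp)).1 ?_)
        simpa using e')
    exact (Nat.mul_le_mul_left _ ih).trans this

theorem lineK_facts (b : Fin 3) : Function.Injective (lineK b) ∧ Nat.card (KS b) = 25920 := by
  have h1 := chain_le b (chainB b) [] (chain_ok b).1
  rw [(chain_ok b).2] at h1
  have h2 : fixing (lineK b).range [] ≤ (lineK b).range := fun x hx => hx.1
  have h3 := h1.trans (Subgroup.card_le_of_le h2)
  have h4 : Nat.card (lineK b).range ≤ Nat.card (KS b) :=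
    Nat.card_le_card_of_surjective _ (lineK b).rangeRestrict_surjective
  have h5 := card_KS_le b
  refine ⟨fun x y e => ?_, by omega⟩
  have hb : Function.Bijective (lineK b).rangeRestrict :=
    (Nat.bijective_iff_surjective_and_card _).2 ⟨(lineK b).rangeRestrict_surjective, by omega⟩
  exact hb.1 (Subtype.ext e)

end CfsgLib.Trans3.FiLarge.SmallStab
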